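import Groth.Agent.Pic13.H959.Geom
import Groth.Agent.Pic13.H504.Descent
import Groth.Agent.Pic13.H138.Finite

/-!
# S4293 from the general theory

Boundedness of the invertible modules whose restriction to the zero scheme of a section of an ample module lies in a
bounded family, from: `ChiNum`, `HodgeIndex`, S4278 (`hτ`), boundedness of `Num Y` (`hN`) and
finiteness of the classes modulo algebraic equivalence of the invertible members of the given family (`hS`).
-/

set_option autoImplicit false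
universe u
open CategoryTheory CategoryTheory.Limits AlgebraicGeometry

namespace Groth.Agent.Pic13.H959.Cond

open Groth.Agent.Pic13.H959.NumOn Groth.Agent.Pic13.H959.DevChi Groth.Agent.Pic13.H959.Geom
open Groth.Agent.Grpsch.PicGrp Groth.Agent.Pic13.H138.AlgEquiv Groth.Agent.Pic13.H138.BddPic
open Groth.Agent.Pic13.H504.Descent

variable (k : Type u) [Field k]

theorem range_zeroScheme {Y : Scheme.{u}} {H : Y.Modules} (hH : PicF.IsInvertible H)
    (φ : Coh.structureModule Y ⟶ H) :
    Set.range (PicF2.zeroScheme H φ).subschemeι = ((CohB1.genLocus H φ : Set Y))ᶜ := by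
  rw [Scheme.IdealSheafData.range_subschemeι]
  ext y
  exact Pi1C.ZeroScheme.mem_support_iff φ hH y

variable [IsAlgClosed k]

theorem isBounded_of (hχ : ChiNum k) (hHI : HodgeIndex k)
    (hτ : ∀ (X : Scheme.{u}) [X.Over (Spec (CommRingCat.of k))] [IsProper (X ↘ Spec (CommRingCat.of k))]
      (L : X.Modules), PicF.IsInvertible L → Pic13.IsTauEquivZero k X L → Pic13.IsNumEquivZero k X L)
    (Y : Scheme.{u}) [Y.Over (Spec (CommRingCat.of k))]
    [IsProper (Y ↘ Spec (CommRingCat.of k))] (H : Y.Modules) (hH : CohB1.IsAmple H) (φ : Coh.structureModule Y ⟶ H)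
    (hdim : ∀ Z ∈ irreducibleComponents (Y : Type u),
      ∀ W ∈ irreducibleComponents ↥(Z ∩ Set.range (PicF2.zeroScheme H φ).subschemeι.base), 2 ≤ topologicalKrullDim ↥W)
    (hN : BddPic k Y {m | ∃ (L : Y.Modules) (hL : PicF.IsInvertible L), Pic13.IsNumEquivZero k Y L ∧ m = mk L hL})
    (P : ((PicF2.zeroScheme H φ).subscheme).Modules → Prop)
    (hS : letI : (PicF2.zeroScheme H φ).subscheme.Over (Spec (CommRingCat.of k)) :=
        ⟨(PicF2.zeroScheme H φ).subschemeι ≫ (Y ↘ Spec (CommRingCat.of k))⟩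
      BddPic k (PicF2.zeroScheme H φ).subscheme (classes P)) :
    Pic13.IsBounded k Y (fun M : Y.Modules => PicF.IsInvertible M ∧
      ∃ L, P L ∧ Nonempty ((Scheme.Modules.pullback (PicF2.zeroScheme H φ).subschemeι).obj M ≅ L)) := by
  letI : (PicF2.zeroScheme H φ).subscheme.Over (Spec (CommRingCat.of k)) :=
    ⟨(PicF2.zeroScheme H φ).subschemeι ≫ (Y ↘ Spec (CommRingCat.of k))⟩
  have hι : (PicF2.zeroScheme H φ).subschemeι ≫ (Y ↘ Spec (CommRingCat.of k)) =
      (PicF2.zeroScheme H φ).subscheme ↘ Spec (CommRingCat.of k) := rfl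
  have hpX : IsProper ((PicF2.zeroScheme H φ).subscheme ↘ Spec (CommRingCat.of k)) := by
    rw [← hι]; infer_instance
  have hr := range_zeroScheme hH.1 φ
  have hdim' : ∀ Z ∈ irreducibleComponents (Y : Type u),
      ∀ W ∈ irreducibleComponents ↥(Z ∩ ((CohB1.genLocus H φ : Set Y))ᶜ), 2 ≤ topologicalKrullDim ↥W := by
    rw [← hr]; exact hdim
  obtain ⟨S, hSf, -, hSA⟩ := H138.Finite.exists_finite hS
  refine isBounded_preimage (PicF2.zeroScheme H φ).subschemeι P (A := classes P)
    (fun L hL hP => ⟨L, hL, hP, rfl⟩) hSf (fun a ha => ?_) hN ?_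
  · obtain ⟨s, hs, e⟩ := hSA a ha
    exact ⟨s, hs, e.symm⟩
  · intro m hm
    obtain ⟨L, hL, rfl⟩ := exists_mk m
    refine ⟨L, hL, ?_, rfl⟩
    refine isNumEquivZero_of_section k hχ hHI Y H hH φ hdim' L hL ?_
    rw [← hr]
    rw [← isNumEquivZero_pullback_iff k _ hι]
    refine hτ _ _ (Fdesc.LocGen.isInvertible_pullback _ hL) ?_
    rw [isTauEquivZero_iff_mem (Fdesc.LocGen.isInvertible_pullback _ hL)]
    exact alg0_le_tau0 hm

end Groth.Agent.Pic13.H959.Cond
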