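import Groth.Agent.Fga.PosMain
import Groth.Agent.Fga.HodgeSec

/-!
# Intersection numbers and the zero scheme of a section

`Z` integral and proper over `k`, `N` invertible with inverse `P`, `s ≠ 0` a section of `N`, `A` invertible such that
`χ(A ⊗ G) = χ(G)` for the coherent `G` supported outside `Z_s`.  Then the intersection symbols with entries
`(A, P, …)` and `(A, A, P, …)` vanish.
-/

set_option autoImplicit false
universe u
open CategoryTheory CategoryTheory.Limits AlgebraicGeometry TopologicalSpace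

namespace Groth.Agent.Pic13.H959.CutZero

open Groth.Agent.Fga Groth.Agent.Fga.RegSec Groth.Agent.Fga.PicMon Groth.Agent.Fga.AltSum Groth.Agent.Fga.IntAdd

variable (k : Type u) [Field k] (Z : Scheme.{u}) [Z.Over (Spec (CommRingCat.of k))] (d : ℕ)

/-- If twisting by `A` does not change Euler characteristics of coherent modules supported in `T`, symbols with an
entry `A` vanish on these. -/
theorem intNum_cons_eq_zero {T : Set Z} {A : Z.Modules}
    (hχ : ∀ G : Z.Modules, Coh.IsCoh G → CohB1.support G ⊆ T →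
      FGA.eulerCharLE k Z (CohB1.tensorMod A G) d = FGA.eulerCharLE k Z G d)
    {r : ℕ} (M : Fin r → Z.Modules) (hM : ∀ i, PicF.IsInvertible (M i)) (G : Z.Modules) (hG : Coh.IsCoh G)
    (hGT : CohB1.support G ⊆ T) :
    FGA.intNum k Z d (Fin.cons A M : Fin (r + 1) → Z.Modules) G = 0 := by
  rw [intNum_cons, sub_eq_zero]
  unfold FGA.intNum
  refine Finset.sum_congr rfl fun I _ => ?_
  congr 1
  have hw : PicF.IsInvertible (FGA.tensorList ((I.sort (· ≤ ·)).map M)) :=
    isInvertible_tensorList _ fun L hL => by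
      obtain ⟨i, -, rfl⟩ := List.mem_map.mp hL
      exact hM i
  set W := FGA.tensorList ((I.sort (· ≤ ·)).map M) with hW
  have hc : Coh.IsCoh (CohB1.tensorMod W G) :=
    Sga67.CohBasic.isCoh_of_iso (Ega2.Tens.swap G W) (TwistCoh.isCoh_tensor hG hw)
  have hs : CohB1.support (CohB1.tensorMod W G) ⊆ T := by
    rw [CohqB.DevSupport.support_congr (Ega2.Tens.swap W G)]
    exact (TwistCoh.support_tensor_subset hw).trans hGT
  rw [← hχ _ hc hs]
  obtain ⟨e⟩ := (mc_eq_iff (CohB1.tensorMod A (CohB1.tensorMod W G)) (CohB1.tensorMod W (CohB1.tensorMod A G))).mp (by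
    rw [mc_tensor, mc_tensor, mc_tensor, mc_tensor, mul_left_comm])
  exact euler_iso k Z e d

variable [IsProper (Z ↘ Spec (CommRingCat.of k))] (hd : topologicalKrullDim Z ≤ d)

include hd in
/-- Cutting by a section which is regular on `F`. -/
theorem intNum_cut {N P : Z.Modules} (hN : PicF.IsInvertible N) (hP : PicF.IsInvertible P) (hPN : mc P * mc N = 1)
    (s : Coh.structureModule Z ⟶ N) {r : ℕ} (M : Fin r → Z.Modules) (hM : ∀ i, PicF.IsInvertible (M i))
    (F : Z.Modules) (hF : Coh.IsCoh F) (hmono : Mono (mulS s F)) :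
    FGA.intNum k Z d (Fin.cons P M : Fin (r + 1) → Z.Modules) F =
      FGA.intNum k Z d M (CohB1.tensorMod P (cokernel (mulS s F))) := by
  have := IntAdd.isNoetherian k Z
  have hNF : Coh.IsCoh (CohB1.tensorMod N F) :=
    Sga67.CohBasic.isCoh_of_iso (Ega2.Tens.swap F _) (TwistCoh.isCoh_tensor hF hN)
  have hC : Coh.IsCoh (cokernel (mulS s F)) := Sga67.CohBasic.isCoh_cokernel _ hF.1 hNF
  have hS : (ShortComplex.mk (mulS s F) (cokernel.π (mulS s F)) (cokernel.condition _)).ShortExact :=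
    { exact := ShortComplex.exact_cokernel _
      mono_f := hmono
      epi_g := inferInstanceAs (Epi (cokernel.π (mulS s F))) }
  have hadd := isAdd_tensor Z (isAdd_intNum k Z d hd M hM) hP _ hS hF hNF hC
  have hiso : FGA.intNum k Z d M (CohB1.tensorMod P (CohB1.tensorMod N F)) = FGA.intNum k Z d M F := by
    obtain ⟨e⟩ := (mc_eq_iff (CohB1.tensorMod P (CohB1.tensorMod N F)) F).mp (by
      rw [mc_tensor, mc_tensor, ← mul_assoc, hPN, one_mul])
    exact intNum_iso k Z d _ e
  rw [intNum_cons]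
  simp only at hadd
  rw [hiso] at hadd
  rw [hadd]
  ring

variable [IsIntegral Z]

include hd in
/-- Symbols with entries `(P, A, …)`. -/
theorem intNum_cut_zero {N P : Z.Modules} (hN : PicF.IsInvertible N) (hP : PicF.IsInvertible P)
    (hPN : mc P * mc N = 1) (s : Coh.structureModule Z ⟶ N) (hs : s ≠ 0) {A : Z.Modules} (hA : PicF.IsInvertible A)
    (hχ : ∀ G : Z.Modules, Coh.IsCoh G → CohB1.support G ⊆ ((CohB1.genLocus N s : Set Z))ᶜ →
      FGA.eulerCharLE k Z (CohB1.tensorMod A G) d = FGA.eulerCharLE k Z G d)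
    {r : ℕ} (M : Fin r → Z.Modules) (hM : ∀ i, PicF.IsInvertible (M i))
    (F : Z.Modules) (hF : PicF.IsInvertible F) :
    FGA.intNum k Z d (Fin.cons P (Fin.cons A M : Fin (r + 1) → Z.Modules) : Fin (r + 2) → Z.Modules) F = 0 := by
  have := IntAdd.isNoetherian k Z
  have hFc : Coh.IsCoh F := HodgeSec.isCoh_of_isInvertible hF
  have hmono := HodgeSec.mono_mulS hN hF s hs
  have hNF : Coh.IsCoh (CohB1.tensorMod N F) :=
    Sga67.CohBasic.isCoh_of_iso (Ega2.Tens.swap F _) (TwistCoh.isCoh_tensor hFc hN)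
  have hC : Coh.IsCoh (cokernel (mulS s F)) := Sga67.CohBasic.isCoh_cokernel _ hFc.1 hNF
  rw [intNum_cut k Z d hd hN hP hPN s _ (fun i => by
    induction i using Fin.cases with
    | zero => exact hA
    | succ i => exact hM i) F hFc hmono]
  refine intNum_cons_eq_zero k Z d hχ M hM _
    (Sga67.CohBasic.isCoh_of_iso (Ega2.Tens.swap _ _) (TwistCoh.isCoh_tensor hC hP)) ?_
  rw [PosMain.support_tensor Z hP hN hPN, support_cokernel_mulS s F hN hFc.2]
  exact fun x hx => hx.2

theorem intNum_swap {r : ℕ} (A P : Z.Modules) (M : Fin r → Z.Modules) (F : Z.Modules) :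
    FGA.intNum k Z d (Fin.cons A (Fin.cons P M : Fin (r + 1) → Z.Modules) : Fin (r + 2) → Z.Modules) F =
      FGA.intNum k Z d (Fin.cons P (Fin.cons A M : Fin (r + 1) → Z.Modules) : Fin (r + 2) → Z.Modules) F := by
  rw [intNum_eq_dSum, intNum_eq_dSum, mc_cons, mc_cons, mc_cons, mc_cons, dSum_cons, dSum_cons, dSum_cons, dSum_cons,
    dSum_cons, dSum_cons]
  have : ∀ (a b : MC Z), (fun x => chiCl k Z d F (a * (b * x))) = fun x => chiCl k Z d F (b * (a * x)) := fun a b => by
    funext x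
    rw [mul_left_comm]
  rw [this]
  ring

include hd in
/-- Symbols with entries `(A, P, …)`. -/
theorem intNum_zero_two {N P : Z.Modules} (hN : PicF.IsInvertible N) (hP : PicF.IsInvertible P)
    (hPN : mc P * mc N = 1) (s : Coh.structureModule Z ⟶ N) (hs : s ≠ 0) {A : Z.Modules} (hA : PicF.IsInvertible A)
    (hχ : ∀ G : Z.Modules, Coh.IsCoh G → CohB1.support G ⊆ ((CohB1.genLocus N s : Set Z))ᶜ →
      FGA.eulerCharLE k Z (CohB1.tensorMod A G) d = FGA.eulerCharLE k Z G d)
    {r : ℕ} (M : Fin r → Z.Modules) (hM : ∀ i, PicF.IsInvertible (M i))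
    (F : Z.Modules) (hF : PicF.IsInvertible F) :
    FGA.intNum k Z d (Fin.cons A (Fin.cons P M : Fin (r + 1) → Z.Modules) : Fin (r + 2) → Z.Modules) F = 0 := by
  rw [intNum_swap]
  exact intNum_cut_zero k Z d hd hN hP hPN s hs hA hχ M hM F hF

include hd in
/-- Symbols with entries `(A, A, P, …)`. -/
theorem intNum_zero_three {N P : Z.Modules} (hN : PicF.IsInvertible N) (hP : PicF.IsInvertible P)
    (hPN : mc P * mc N = 1) (s : Coh.structureModule Z ⟶ N) (hs : s ≠ 0) {A : Z.Modules} (hA : PicF.IsInvertible A)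
    (hχ : ∀ G : Z.Modules, Coh.IsCoh G → CohB1.support G ⊆ ((CohB1.genLocus N s : Set Z))ᶜ →
      FGA.eulerCharLE k Z (CohB1.tensorMod A G) d = FGA.eulerCharLE k Z G d)
    {r : ℕ} (M : Fin r → Z.Modules) (hM : ∀ i, PicF.IsInvertible (M i))
    (F : Z.Modules) (hF : PicF.IsInvertible F) :
    FGA.intNum k Z d (Fin.cons A (Fin.cons A (Fin.cons P M : Fin (r + 1) → Z.Modules) : Fin (r + 2) → Z.Modules) :
      Fin (r + 3) → Z.Modules) F = 0 := by
  rw [intNum_cons, intNum_zero_two k Z d hd hN hP hPN s hs hA hχ M hM F hF,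
    intNum_zero_two k Z d hd hN hP hPN s hs hA hχ M hM _ (Fdesc.LocGen.isInvertible_tensorMod hA hF), sub_zero]

end Groth.Agent.Pic13.H959.CutZero
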