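import Groth.Agent.Pic13.H959.NumOn
import Groth.Agent.Fga.IntAdd
import Groth.Agent.Fga.IntNum0
import Groth.Agent.Fga.MultInt
import Groth.Agent.CohqB.DevGeom
import Groth.Agent.CohqB.AmpGeneric

/-!
# Euler characteristics of twists by modules that are numerically trivial on the support

`chi_eq`: `Y` proper over `k`, `A ⊆ Y` closed, `L` invertible of degree `0` on the curves contained in `A`, `F` coherent
with `Supp F ⊆ A`: then `χ(L ⊗ F) = χ(F)`; under the hypothesis `ChiNum k` that this is true for `F = O_Y`, `Y` integral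
and `A = Y`.
-/

set_option autoImplicit false
universe u
open CategoryTheory CategoryTheory.Limits AlgebraicGeometry TopologicalSpace

namespace Groth.Agent.Pic13.H959.DevChi

open Groth.Agent.Pic13.H959.NumOn Groth.Agent.Fga

/-- On integral proper `k`-schemes with an ample module, numerically trivial invertible modules have the Euler
characteristic of the structure sheaf. -/
def ChiNum (k : Type u) [Field k] : Prop :=
  ∀ (W : Scheme.{u}) [W.Over (Spec (CommRingCat.of k))] [IsProper (W ↘ Spec (CommRingCat.of k))] [IsIntegral W]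
    (H : W.Modules), CohB1.IsAmple H →
    ∀ d : ℕ, topologicalKrullDim W ≤ d → ∀ L : W.Modules, PicF.IsInvertible L → Pic13.IsNumEquivZero k W L →
      FGA.eulerCharLE k W L d = FGA.eulerCharLE k W (Coh.structureModule W) d

variable (k : Type u) [Field k] (Y : Scheme.{u}) [Y.Over (Spec (CommRingCat.of k))]
  [IsProper (Y ↘ Spec (CommRingCat.of k))]

theorem chi_eq (hbb : ChiNum k) (H : Y.Modules) (hH : CohB1.IsAmple H) (d : ℕ) (hd : topologicalKrullDim Y ≤ d) (A : Set Y) (hA : IsClosed A)
    (L : Y.Modules) (hL : PicF.IsInvertible L) (hnum : NumZeroOn k Y A L) (F : Y.Modules) (hF : Coh.IsCoh F)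
    (hFA : CohB1.support F ⊆ A) :
    FGA.eulerCharLE k Y (CohB1.tensorMod L F) d = FGA.eulerCharLE k Y F d := by
  have := IntAdd.isNoetherian k Y
  have hadd := IntAdd.isAdd_euler k Y d hd
  have hadd' := IntAdd.isAdd_tensor Y hadd hL
  refine Ega3B.Devissage.devissage A hA
    (fun F => FGA.eulerCharLE k Y (CohB1.tensorMod L F) d = FGA.eulerCharLE k Y F d) ?_ ?_ ?_ F hF hFA
  · intro M hM
    have h1 : IsZero (CohB1.tensorMod L M) := (DCoh.tensorBi.obj L).map_isZero hM
    rw [IntNum0.eulerCharLE_of_isZero k hM, IntNum0.eulerCharLE_of_isZero k h1]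
  · intro S hS h1 h2 h3 _
    have e1 := hadd S hS h1 h2 h3
    have e2 := hadd' S hS h1 h2 h3
    simp only at e1 e2
    refine ⟨fun a b => ?_, fun a b => ?_, fun a b => ?_⟩
    all_goals
      simp only at a b ⊢
      linarith
  · intro y hy
    obtain ⟨W, i, hi, hW, hr⟩ := CohqB.DevGeom.exists_integral (closure {y}) isClosed_closure
      isIrreducible_singleton.closure
    have hyc : closure {y} ⊆ A := closure_minimal (Set.singleton_subset_iff.mpr hy) hA
    have hη : i (genericPoint W) = y := by
      have h1 := CohqB.DevGeom.closure_image_genericPoint i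
      rw [hr] at h1
      exact (IsGenericPoint.eq (S := closure {y}) h1 rfl)
    letI : W.Over (Spec (CommRingCat.of k)) := ⟨i ≫ (Y ↘ Spec (CommRingCat.of k))⟩
    have hiW : i ≫ (Y ↘ Spec (CommRingCat.of k)) = W ↘ Spec (CommRingCat.of k) := rfl
    have hpW : IsProper (W ↘ Spec (CommRingCat.of k)) := by
      rw [← hiW]; infer_instance
    have hdW : topologicalKrullDim W ≤ d :=
      (i.isClosedEmbedding.isInducing.topologicalKrullDim_le).trans hd
    have hinv : PicF.IsInvertible ((Scheme.Modules.pullback i).obj L) := Fdesc.LocGen.isInvertible_pullback i hL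
    have hn : Pic13.IsNumEquivZero k W ((Scheme.Modules.pullback i).obj L) := by
      rw [isNumEquivZero_pullback_iff k i hiW, hr]
      exact hnum.mono k hyc
    refine ⟨(Coh.push i).obj (Coh.structureModule W), CycB.ClosSheaf.isCoh_push_structureModule i, ?_, ?_, ?_⟩
    · have hHW := CohqB.AmpCocycle.isAmple_pullback i hH
      have e1 := PicMon.euler_iso k Y (VarietyB.ProjForm.projIso i (MultInt.hasBases hL) (Coh.structureModule W)) d
      have e2 := MultInt.euler_push k i hiW (Coh.structureModule W) d
      have e3 := MultInt.euler_push k i hiW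
        (CohB1.tensorMod ((Scheme.Modules.pullback i).obj L) (Coh.structureModule W)) d
      have e4 := PicMon.euler_iso k W (Ega2.Tens.runit ((Scheme.Modules.pullback i).obj L)) d
      have e5 := hbb W _ hHW d hdW _ hinv hn
      rw [e2]
      refine Eq.trans ?_ (e3.trans (e4.trans e5))
      first | exact e1 | exact e1.symm
    · rw [← hr]
      exact CohqB.DevSimple.support_push_subset_range i _
    · rw [← hη]
      have : Nonempty ((⊤ : W.Opens) : Scheme.{u}) := ⟨⟨genericPoint W, trivial⟩⟩
      exact CohqB.DevSimple.isSimpleModule_stalk_push i _ ⊤ ⟨Scheme.Modules.restrictUnitIso _⟩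

end Groth.Agent.Pic13.H959.DevChi
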