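import Groth.Agent.Pic13.H959.DevChi
import Groth.Agent.Pic13.H959.CutZero
import Groth.Agent.Pi1C.ZeroScheme
import Groth.Agent.Fga.HodgeAsm
import Groth.Agent.VarietyA.TwistExist
import Groth.Agent.Grpsch.PicGrp
import Groth.Agent.EtpbcA.CdFinDim
import Groth.Agent.CohqB.AmpGeneric
import Groth.Agent.Ega2.WeightPull
import Groth.Agent.Ega2.FiniteSet

/-!
# Numerical Lefschetz: modules that are numerically trivial on a hyperplane section

`Y` proper over `k` with an ample `H`, `φ` a section of `H`, such that for every irreducible component `Z` of `Y` the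
irreducible components of `Z ∩ V(φ)` have dimension `≥ 2`.  If `L` is invertible and has degree `0` on the curves
contained in `V(φ)`, then `L` is numerically equivalent to zero (`isNumEquivZero_of_section`), under the hypotheses
`ChiNum k` (Euler characteristics of numerically trivial modules) and `HodgeIndex k` (S4290 for integral schemes).
-/

set_option autoImplicit false
universe u
open CategoryTheory CategoryTheory.Limits AlgebraicGeometry TopologicalSpace

namespace Groth.Agent.Pic13.H959.Geom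

open Groth.Agent.Pic13.H959.NumOn Groth.Agent.Pic13.H959.DevChi Groth.Agent.Fga Groth.Agent.Fga.PicMon
open Groth.Agent.Ega2.Weight

/-- The Hodge index theorem in the form of S4290, for integral schemes. -/
def HodgeIndex (k : Type u) [Field k] : Prop :=
  ∀ (X : Scheme.{u}) [X.Over (Spec (CommRingCat.of k))] [IsProper (X ↘ Spec (CommRingCat.of k))] [IsIntegral X]
    (s : ℕ), topologicalKrullDim X = (s + 2 : ℕ) → ∀ H H' L L' : X.Modules, CohB1.IsAmple H → PicF.IsInvertible L →
    Nonempty (CohB1.tensorMod H H' ≅ Coh.structureModule X) →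
    Nonempty (CohB1.tensorMod L L' ≅ Coh.structureModule X) →
    FGA.intNum k X (s + 2) (Matrix.vecCons L' (fun _ : Fin (s + 1) => H')) (Coh.structureModule X) = 0 →
    0 ≤ FGA.intNum k X (s + 2) (Matrix.vecCons L' (Matrix.vecCons L' (fun _ : Fin s => H'))) (Coh.structureModule X) →
    Pic13.IsNumEquivZero k X L

variable (k : Type u) [Field k]

/-- Inverse of `chi_eq`. -/
theorem chi_eq_inv {Z : Scheme.{u}} [Z.Over (Spec (CommRingCat.of k))] (d : ℕ) {T : Set Z} {L L' : Z.Modules}
    (hL' : PicF.IsInvertible L')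
    (hLL' : mc L * mc L' = 1)
    (hχ : ∀ G : Z.Modules, Coh.IsCoh G → CohB1.support G ⊆ T →
      FGA.eulerCharLE k Z (CohB1.tensorMod L G) d = FGA.eulerCharLE k Z G d)
    (G : Z.Modules) (hG : Coh.IsCoh G) (hGT : CohB1.support G ⊆ T) :
    FGA.eulerCharLE k Z (CohB1.tensorMod L' G) d = FGA.eulerCharLE k Z G d := by
  have hc : Coh.IsCoh (CohB1.tensorMod L' G) :=
    Sga67.CohBasic.isCoh_of_iso (Ega2.Tens.swap G L') (TwistCoh.isCoh_tensor hG hL')
  have hs : CohB1.support (CohB1.tensorMod L' G) ⊆ T := by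
    rw [CohqB.DevSupport.support_congr (Ega2.Tens.swap L' G)]
    exact (TwistCoh.support_tensor_subset hL').trans hGT
  rw [← hχ _ hc hs]
  obtain ⟨e⟩ := (mc_eq_iff (CohB1.tensorMod L (CohB1.tensorMod L' G)) G).mp (by
    rw [mc_tensor, mc_tensor, ← mul_assoc, hLL', one_mul])
  exact euler_iso k Z e d

/-- **The integral case**: `Z` integral and proper of dimension `≥ 3`, `s ≠ 0` a section of an ample module. -/
theorem isNumEquivZero_of_integral (hχ : ChiNum k) (hHI : HodgeIndex k) (Z : Scheme.{u})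
    [Z.Over (Spec (CommRingCat.of k))] [IsProper (Z ↘ Spec (CommRingCat.of k))] [IsIntegral Z]
    (t : ℕ) (hdim : topologicalKrullDim Z = (t + 3 : ℕ)) (H : Z.Modules) (hH : CohB1.IsAmple H)
    (s : Coh.structureModule Z ⟶ H) (hs : s ≠ 0) (L : Z.Modules) (hL : PicF.IsInvertible L)
    (hnum : NumZeroOn k Z ((CohB1.genLocus H s : Set Z))ᶜ L) : Pic13.IsNumEquivZero k Z L := by
  obtain ⟨H', hH', ⟨eH⟩⟩ := Grpsch.PicGrp.exists_inverse hH.1
  obtain ⟨L', hL', ⟨eL⟩⟩ := Grpsch.PicGrp.exists_inverse hL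
  have hPN : mc H' * mc H = 1 := by
    rw [mul_comm, ← mc_tensor, ← mc_one]
    exact mc_eq eH
  have hLL' : mc L * mc L' = 1 := by
    rw [← mc_tensor, ← mc_one]
    exact mc_eq eL
  have hO : PicF.IsInvertible (Coh.structureModule Z) := Fdesc.LocGen.isInvertible_structureModule
  have hd : topologicalKrullDim Z ≤ (t + 1 + 2 : ℕ) := hdim.le
  have h1 := chi_eq_inv k (t + 1 + 2) hL' hLL'
    (fun G hG hGT => chi_eq k Z hχ H hH (t + 1 + 2) hd _ (CohB1.genLocus H s).isOpen.isClosed_compl L hL hnum G hG hGT)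
  refine hHI Z (t + 1) hdim H H' L L' hH hL ⟨eH⟩ ⟨eL⟩ ?_ (le_of_eq ?_)
  · have h2 := CutZero.intNum_zero_two k Z (t + 1 + 2) hd hH.1 hH' hPN s hs hL' h1
      (fun _ : Fin (t + 1) => H') (fun _ => hH') _ hO
    have e : (Matrix.vecCons L' (fun _ : Fin (t + 1 + 1) => H')) =
        (Fin.cons L' (Fin.cons H' (fun _ : Fin (t + 1) => H') : Fin (t + 1 + 1) → Z.Modules) :
          Fin (t + 1 + 2) → Z.Modules) := by
      have : (fun _ : Fin (t + 1 + 1) => H') =
          (Fin.cons H' (fun _ : Fin (t + 1) => H') : Fin (t + 1 + 1) → Z.Modules) := by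
        funext i
        cases i using Fin.cases with
        | zero => rfl
        | succ i => rfl
      rw [this]; rfl
    rw [e]
    exact h2
  · have h2 := CutZero.intNum_zero_three k Z (t + 1 + 2) hd hH.1 hH' hPN s hs hL' h1
      (fun _ : Fin t => H') (fun _ => hH') _ hO
    have e : (Matrix.vecCons L' (Matrix.vecCons L' (fun _ : Fin (t + 1) => H'))) =
        (Fin.cons L' (Fin.cons L' (Fin.cons H' (fun _ : Fin t => H') : Fin (t + 1) → Z.Modules) :
          Fin (t + 2) → Z.Modules) : Fin (t + 3) → Z.Modules) := by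
      have : (fun _ : Fin (t + 1) => H') =
          (Fin.cons H' (fun _ : Fin t => H') : Fin (t + 1) → Z.Modules) := by
        funext i
        cases i using Fin.cases with
        | zero => rfl
        | succ i => rfl
      rw [this]; rfl
    rw [e]
    exact h2.symm

/-- A section of an ample module on a proper integral curve vanishes somewhere. -/
theorem genLocus_ne_top (C : Scheme.{u}) [C.Over (Spec (CommRingCat.of k))]
    [IsProper (C ↘ Spec (CommRingCat.of k))] [IsIntegral C] (hdim : topologicalKrullDim C = 1)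
    (H : C.Modules) (hH : CohB1.IsAmple H) (s : Coh.structureModule C ⟶ H) : CohB1.genLocus H s ≠ ⊤ := by
  intro htop
  have hiso : IsIso s := by
    rw [Fdesc.LocGen.isIso_iff_isGen]
    have key : ∀ U : C.Opens, U = ⊤ → Fdesc.LocGen.IsGen (Fdesc.LocGen.sec s U) →
        Fdesc.LocGen.IsGen (Fdesc.LocGen.sec s ⊤) := by
      rintro U rfl h; exact h
    exact key _ htop (Fdesc.LocGen.isGen_sec_genLocus s)
  obtain ⟨H', hH', ⟨eH⟩⟩ := Grpsch.PicGrp.exists_inverse hH.1
  have hm : mc H = 1 := (mc_eq (asIso s)).symm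
  have hm' : mc H' = 1 := by
    have : mc H * mc H' = 1 := by rw [← mc_tensor, ← mc_one]; exact mc_eq eH
    rwa [hm, one_mul] at this
  have hO : PicF.IsInvertible (Coh.structureModule C) := Fdesc.LocGen.isInvertible_structureModule
  have hsupp : topologicalKrullDim (CohB1.support (Coh.structureModule C)) = (1 : ℕ) := by
    rw [HodgeAsm.support_unit]
    exact ((Homeomorph.Set.univ C).isHomeomorph.topologicalKrullDim_eq).trans hdim
  have hpos := PosMain.intNum_pos k C 1 hdim.le (r := 1) (fun _ => H) (fun _ => H') (fun _ => hH) (fun _ => ⟨eH⟩)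
    (Coh.structureModule C) (HodgeSec.isCoh_of_isInvertible hO) hsupp
  have e : (fun _ : Fin 1 => H') = (Fin.cons H' (fun _ : Fin 0 => H') : Fin 1 → C.Modules) := by
    funext i
    cases i using Fin.cases with
    | zero => rfl
    | succ i => exact i.elim0
  obtain ⟨e'⟩ := (mc_eq_iff (CohB1.tensorMod H' (Coh.structureModule C)) (Coh.structureModule C)).mp (by
    rw [mc_tensor, hm', one_mul])
  rw [e, intNum_cons, intNum_iso k C 1 _ e', sub_self] at hpos
  exact lt_irrefl _ hpos

theorem exists_nat_add_three {a : WithBot ℕ∞} {n : ℕ} (h1 : ((3 : ℕ) : WithBot ℕ∞) ≤ a)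
    (h2 : a ≤ ((n : ℕ) : WithBot ℕ∞)) : ∃ t : ℕ, a = (t + 3 : ℕ) := by
  induction a using WithBot.recBotCoe with
  | bot => exact absurd h1 (by simp)
  | coe a =>
    have h2' : a ≤ (n : ℕ∞) := by exact_mod_cast h2
    obtain ⟨m, rfl⟩ := ENat.ne_top_iff_exists.mp (ne_top_of_le_ne_top (ENat.natCast_ne_top n) h2')
    have h1' : (3 : ℕ) ≤ m := Nat.cast_le.mp (WithBot.coe_le_coe.mp h1)
    exact ⟨m - 3, by rw [Nat.sub_add_cancel h1']; rfl⟩

/-- **Numerical Lefschetz**: modules that are numerically trivial on a hyperplane section. -/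
theorem isNumEquivZero_of_section (hχ : ChiNum k) (hHI : HodgeIndex k) (Y : Scheme.{u})
    [Y.Over (Spec (CommRingCat.of k))] [IsProper (Y ↘ Spec (CommRingCat.of k))] (H : Y.Modules)
    (hH : CohB1.IsAmple H) (φ : Coh.structureModule Y ⟶ H)
    (hdim : ∀ Z ∈ irreducibleComponents (Y : Type u),
      ∀ W ∈ irreducibleComponents ↥(Z ∩ ((CohB1.genLocus H φ : Set Y))ᶜ), 2 ≤ topologicalKrullDim ↥W)
    (L : Y.Modules) (hL : PicF.IsInvertible L) (hnum : NumZeroOn k Y ((CohB1.genLocus H φ : Set Y))ᶜ L) :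
    Pic13.IsNumEquivZero k Y L := by
  intro C i _ hC hdimC
  have hirr : IsIrreducible (Set.range i) := by
    rw [← Set.image_univ]
    exact (IrreducibleSpace.isIrreducible_univ C).image i i.continuous.continuousOn
  obtain ⟨Z, hZ, hCZ⟩ := exists_mem_irreducibleComponents_subset_of_isIrreducible (Set.range i) hirr
  have hZc : IsClosed Z := isClosed_of_mem_irreducibleComponents Z hZ
  obtain ⟨W, j, hj, hW, hr⟩ := CohqB.DevGeom.exists_integral Z hZc hZ.1
  letI : W.Over (Spec (CommRingCat.of k)) := ⟨j ≫ (Y ↘ Spec (CommRingCat.of k))⟩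
  have hjW : j ≫ (Y ↘ Spec (CommRingCat.of k)) = W ↘ Spec (CommRingCat.of k) := rfl
  have hpW : IsProper (W ↘ Spec (CommRingCat.of k)) := by
    rw [← hjW]; infer_instance
  suffices h : Pic13.IsNumEquivZero k W ((Scheme.Modules.pullback j).obj L) from
    (isNumEquivZero_pullback_iff k j hjW).mp h C i hC hdimC (hr ▸ hCZ)
  have hgl : CohB1.genLocus _ (pullHom j φ) = j ⁻¹ᵁ CohB1.genLocus H φ := genLocus_pullHom j hH.1 φ
  by_cases hs : pullHom j φ = 0
  · have h0 : CohB1.genLocus _ (pullHom j φ) = ⊥ := by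
      rw [hs]; exact Ega2.FiniteSet.genLocus_zero
    rw [isNumEquivZero_pullback_iff k j hjW]
    refine hnum.mono k ?_
    rintro _ ⟨w, rfl⟩ hw
    have h1 : w ∈ j ⁻¹ᵁ CohB1.genLocus H φ := hw
    rw [← hgl, h0] at h1
    exact h1
  · -- a point of `C` on the zero scheme
    letI : C.Over (Spec (CommRingCat.of k)) := ⟨i ≫ (Y ↘ Spec (CommRingCat.of k))⟩
    have hiC : i ≫ (Y ↘ Spec (CommRingCat.of k)) = C ↘ Spec (CommRingCat.of k) := rfl
    have hpC : IsProper (C ↘ Spec (CommRingCat.of k)) := by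
      rw [← hiC]; infer_instance
    have hampC := CohqB.AmpCocycle.isAmple_pullback i hH
    have h1 := genLocus_ne_top k C hdimC _ hampC (pullHom i φ)
    rw [genLocus_pullHom i hH.1 φ] at h1
    obtain ⟨c, hc⟩ : ∃ c : C, i c ∉ CohB1.genLocus H φ := by
      by_contra hcon
      push Not at hcon
      exact h1 (TopologicalSpace.Opens.ext (Set.eq_univ_of_forall fun c => hcon c))
    set B : Set Y := Z ∩ ((CohB1.genLocus H φ : Set Y))ᶜ with hB
    have hBc : IsClosed B := hZc.inter (CohB1.genLocus H φ).isOpen.isClosed_compl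
    have hbB : i c ∈ B := ⟨hCZ ⟨c, rfl⟩, hc⟩
    have h2 : (2 : WithBot ℕ∞) ≤ topologicalKrullDim B :=
      (hdim Z hZ (irreducibleComponent (⟨i c, hbB⟩ : B)) (irreducibleComponent_mem_irreducibleComponents _)).trans
        (topologicalKrullDim_subspace_le B _)
    have hne : B ≠ Z := by
      intro heq
      obtain ⟨w, hw⟩ := VarietyA.TwistExist.genLocus_nonempty (Fdesc.LocGen.isInvertible_pullback j hH.1)
        (pullHom j φ) hs
      have hw' : w ∈ j ⁻¹ᵁ CohB1.genLocus H φ := hgl ▸ hw
      have h3 : j w ∈ B := by rw [heq, ← hr]; exact ⟨w, rfl⟩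
      exact h3.2 hw'
    have h3 : ((3 : ℕ) : WithBot ℕ∞) ≤ topologicalKrullDim Z := by
      by_contra hcon
      rw [not_le] at hcon
      have h4 := DimLt.topologicalKrullDim_lt (d := 2) hZ.1 hBc Set.inter_subset_left hne hcon
      exact absurd h2 (not_le.mpr h4)
    have h4 : topologicalKrullDim Z ≤ topologicalKrullDim W := by
      rw [← hr]
      exact (j.isClosedEmbedding.isEmbedding.toHomeomorph.symm).isInducing.topologicalKrullDim_le
    obtain ⟨n, hn⟩ := EtpbcA.CdFinDim.exists_dim_le (W ↘ Spec (CommRingCat.of k))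
    obtain ⟨t, ht⟩ := exists_nat_add_three (h3.trans h4) hn
    refine isNumEquivZero_of_integral k hχ hHI W t ht _ (CohqB.AmpCocycle.isAmple_pullback j hH) (pullHom j φ) hs _
      (Fdesc.LocGen.isInvertible_pullback j hL) ?_
    refine (hnum.pullback k j hjW).mono k ?_
    intro w hw hw'
    apply hw
    rw [hgl]
    exact hw'

end Groth.Agent.Pic13.H959.Geom
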