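import Mathlib.AlgebraicGeometry.Morphisms.ClosedImmersion
import Mathlib.AlgebraicGeometry.IdealSheaf.Functorial

/-!
# Factoring a morphism from a reduced scheme through a closed subscheme

`exists_lift`: `j : Z ⟶ Y` a closed immersion, `i : C ⟶ Y` quasi-compact with `C` reduced and
`i(C) ⊆ j(Z)` set-theoretically: then `i` factors through `j`.
-/

set_option autoImplicit false
universe u
open CategoryTheory CategoryTheory.Limits AlgebraicGeometry TopologicalSpace

namespace Groth.Agent.Pic13.H959.RedLift

theorem radical_ker {C Y : Scheme.{u}} (i : C ⟶ Y) [QuasiCompact i] [IsReduced C] :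
    i.ker.radical = i.ker := by
  ext U : 2
  change (i.ker.ideal U).radical = i.ker.ideal U
  rw [Scheme.Hom.ker_apply]
  refine Ideal.IsRadical.radical ?_
  intro x hx
  obtain ⟨n, hn⟩ := hx
  rw [RingHom.mem_ker, map_pow] at hn
  rw [RingHom.mem_ker]
  have : _root_.IsReduced Γ(C, i ⁻¹ᵁ U.1) := inferInstance
  exact IsNilpotent.eq_zero ⟨n, hn⟩

theorem ker_le_of_range {C Z Y : Scheme.{u}} (j : Z ⟶ Y) [IsClosedImmersion j] (i : C ⟶ Y)
    [QuasiCompact i] [IsReduced C] (h : Set.range i ⊆ Set.range j) : j.ker ≤ i.ker := by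
  rw [← radical_ker i, ← Scheme.IdealSheafData.vanishingIdeal_support,
    ← Scheme.IdealSheafData.le_support_iff_le_vanishingIdeal]
  change (i.ker.support : Set Y) ⊆ (j.ker.support : Set Y)
  rw [Scheme.Hom.support_ker, Scheme.Hom.support_ker]
  exact closure_mono h

/-- A quasi-compact morphism from a reduced scheme whose image lies in a closed subscheme factors through it. -/
theorem exists_lift {C Z Y : Scheme.{u}} (j : Z ⟶ Y) [IsClosedImmersion j] (i : C ⟶ Y)
    [QuasiCompact i] [IsReduced C] (h : Set.range i ⊆ Set.range j) : ∃ f : C ⟶ Z, f ≫ j = i :=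
  ⟨IsClosedImmersion.lift j i (ker_le_of_range j i h), IsClosedImmersion.lift_fac j i _⟩

end Groth.Agent.Pic13.H959.RedLift
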