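import Groth.Prelude.Def_Pic13
import Groth.Agent.Fga.PicMon
import Groth.Agent.Pic13.H959.RedLift

/-!
# Modules of degree zero on the integral curves contained in a subset

`NumZeroOn k Y A L`: `L` has degree `0` on every integral closed curve `C ⊆ Y` with `C ⊆ A`.
* `numZeroOn_univ`: for `A = Y` this is `Pic13.IsNumEquivZero k Y L`.
* `isNumEquivZero_pullback_iff`: for a closed immersion `j : Z ⟶ Y`, `j^* L` is numerically equivalent to zero iff
  `L` has degree `0` on the curves contained in `j(Z)`.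
-/

set_option autoImplicit false
universe u
open CategoryTheory CategoryTheory.Limits AlgebraicGeometry

namespace Groth.Agent.Pic13.H959.NumOn

variable (k : Type u) [Field k]

/-- Isomorphism invariance of the degree. -/
theorem curveDeg_congr {Y : Scheme.{u}} (p : Y ⟶ Spec (CommRingCat.of k)) {L M : Y.Modules} (e : L ≅ M) :
    Pic13.curveDeg k p L = Pic13.curveDeg k p M := by
  unfold Pic13.curveDeg
  rw [@Fga.PicMon.euler_iso k _ Y ⟨p⟩ L M e 1]

/-- `L` has degree `0` on the integral closed curves of `Y` contained in `A`. -/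
def NumZeroOn (Y : Scheme.{u}) [Y.Over (Spec (CommRingCat.of k))] (A : Set Y) (L : Y.Modules) : Prop :=
  ∀ (C : Scheme.{u}) (i : C ⟶ Y) [IsClosedImmersion i], IsIntegral C → topologicalKrullDim C = 1 →
    Set.range i ⊆ A →
      Pic13.curveDeg k (i ≫ (Y ↘ Spec (CommRingCat.of k))) ((Scheme.Modules.pullback i).obj L) = 0

theorem NumZeroOn.mono {Y : Scheme.{u}} [Y.Over (Spec (CommRingCat.of k))] {A B : Set Y} (h : A ⊆ B)
    {L : Y.Modules} (hL : NumZeroOn k Y B L) : NumZeroOn k Y A L :=
  fun C i _ h1 h2 h3 => hL C i h1 h2 (h3.trans h)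

theorem numZeroOn_univ {Y : Scheme.{u}} [Y.Over (Spec (CommRingCat.of k))] {L : Y.Modules} :
    NumZeroOn k Y Set.univ L ↔ Pic13.IsNumEquivZero k Y L :=
  ⟨fun h C i _ h1 h2 => h C i h1 h2 (Set.subset_univ _), fun h C i _ h1 h2 _ => h C i h1 h2⟩

/-- Degrees on the curves of a closed subscheme. -/
theorem isNumEquivZero_pullback_iff {Y Z : Scheme.{u}} [Y.Over (Spec (CommRingCat.of k))]
    [Z.Over (Spec (CommRingCat.of k))] (j : Z ⟶ Y) [IsClosedImmersion j]
    (hj : j ≫ (Y ↘ Spec (CommRingCat.of k)) = Z ↘ Spec (CommRingCat.of k)) {L : Y.Modules} :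
    Pic13.IsNumEquivZero k Z ((Scheme.Modules.pullback j).obj L) ↔ NumZeroOn k Y (Set.range j) L := by
  constructor
  · intro h C i _ h1 h2 h3
    obtain ⟨f, hf⟩ := RedLift.exists_lift j i h3
    have : IsClosedImmersion (f ≫ j) := by rw [hf]; infer_instance
    have hfc : IsClosedImmersion f := IsClosedImmersion.of_comp f j
    have h4 := h C f h1 h2
    have e : (Scheme.Modules.pullback f).obj ((Scheme.Modules.pullback j).obj L) ≅
        (Scheme.Modules.pullback i).obj L :=
      (Scheme.Modules.pullbackComp f j).app L ≪≫ (Scheme.Modules.pullbackCongr hf).app L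
    rw [← curveDeg_congr k _ e]
    rw [← hj, ← Category.assoc, hf] at h4
    exact h4
  · intro h C f _ h1 h2
    have h4 := h C (f ≫ j) h1 h2 (by
      rintro _ ⟨x, rfl⟩
      exact ⟨f x, by simp⟩)
    have e : (Scheme.Modules.pullback f).obj ((Scheme.Modules.pullback j).obj L) ≅
        (Scheme.Modules.pullback (f ≫ j)).obj L := (Scheme.Modules.pullbackComp f j).app L
    rw [curveDeg_congr k _ e, ← hj, ← Category.assoc]
    exact h4

/-- Degrees on the curves of a closed subscheme, for a subset. -/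
theorem NumZeroOn.pullback {Y Z : Scheme.{u}} [Y.Over (Spec (CommRingCat.of k))]
    [Z.Over (Spec (CommRingCat.of k))] (j : Z ⟶ Y) [IsClosedImmersion j]
    (hj : j ≫ (Y ↘ Spec (CommRingCat.of k)) = Z ↘ Spec (CommRingCat.of k)) {L : Y.Modules} {A : Set Y}
    (h : NumZeroOn k Y A L) : NumZeroOn k Z (j ⁻¹' A) ((Scheme.Modules.pullback j).obj L) := by
  intro C f _ h1 h2 h3
  have h4 := h C (f ≫ j) h1 h2 (by
    rintro _ ⟨x, rfl⟩
    have := h3 ⟨x, rfl⟩
    simpa using this)
  have e : (Scheme.Modules.pullback f).obj ((Scheme.Modules.pullback j).obj L) ≅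
      (Scheme.Modules.pullback (f ≫ j)).obj L := (Scheme.Modules.pullbackComp f j).app L
  rw [curveDeg_congr k _ e, ← hj, ← Category.assoc]
  exact h4

end Groth.Agent.Pic13.H959.NumOn
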